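import Groth.Agent.H58.NV.Complete
import Groth.Agent.H58.LCFlat2
import Groth.Agent.S0547
import Groth.Agent.H26.ComplQuot

/-!
# Grothendieck non-vanishing: `H^d_m(M) ≠ 0` for `d = dim M`
-/
set_option autoImplicit false
set_option linter.unusedSectionVars false
set_option linter.style.haveILetI false
universe u
open CategoryTheory CategoryTheory.Limits Opposite Pointwise TensorProduct

namespace Groth.Agent.H58.NV

open Groth.Agent.H58.LC IsLocalRing

/-- complete local rings -/
theorem nontrivial_of_complete (C : Type u) [CommRing C] [IsNoetherianRing C] [IsLocalRing C]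
    [IsAdicComplete (maximalIdeal C) C] (d : ℕ) (hd : ringKrullDim C = d) :
    Nontrivial (LocCoh.H (maximalIdeal C) d C) := by
  obtain ⟨P, -, hPd⟩ := exists_prime_dim_eq (R := C) C d
    (by rw [Module.supportDim_self_eq_ringKrullDim, hd])
  haveI := P.2
  haveI : Nontrivial (C ⧸ P.asIdeal) := Ideal.Quotient.nontrivial_iff.2 P.2.ne_top
  haveI : IsLocalRing (C ⧸ P.asIdeal) :=
    IsLocalRing.of_surjective' (Ideal.Quotient.mk P.asIdeal) Ideal.Quotient.mk_surjective
  haveI : IsAdicComplete (maximalIdeal (C ⧸ P.asIdeal)) (C ⧸ P.asIdeal) :=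
    Groth.Agent.H26.ComplQuot.isAdicComplete_quotient P.asIdeal
  have h3 := nontrivial_of_complete_domain (C ⧸ P.asIdeal) d hPd
  obtain ⟨φ, -⟩ := indepProp (R' := C ⧸ P.asIdeal) (maximalIdeal C) d (C ⧸ P.asIdeal)
  have hmap : (maximalIdeal C).map (algebraMap C (C ⧸ P.asIdeal)) = maximalIdeal (C ⧸ P.asIdeal) :=
    map_maximalIdeal_of_surjective (Ideal.Quotient.mk P.asIdeal) Ideal.Quotient.mk_surjective
  rw [hmap] at φ
  have h4 : Nontrivial (LocCoh.H (maximalIdeal C) d (C ⧸ P.asIdeal)) := φ.symm.toEquiv.nontrivial
  have hT : Module.supportDim C P.asIdeal < ((d + 1 : ℕ) : WithBot ℕ∞) := by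
    refine lt_of_le_of_lt ((Module.supportDim_le_ringKrullDim C _).trans hd.le) ?_
    exact_mod_cast Nat.lt_succ_self d
  have hsurj := surjective_map_mkQ_top (maximalIdeal C) d C P.asIdeal hT
  obtain ⟨a, b, hab⟩ := h4
  obtain ⟨a', rfl⟩ := hsurj a
  obtain ⟨b', rfl⟩ := hsurj b
  exact ⟨a', b', fun h' => hab (by rw [h'])⟩

theorem domainNV (d : ℕ) : DomainNV.{u} d := by
  intro D _ _ _ _ hd
  by_contra hcon
  rw [not_nontrivial_iff_subsingleton] at hcon
  haveI : IsNoetherianRing (AdicCompletion (maximalIdeal D) D) :=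
    Groth.Agent.H20.isNoetherianRing_adicCompletion (maximalIdeal D)
  have hdim : ringKrullDim (AdicCompletion (maximalIdeal D) D) = d :=
    (Groth.Agent.S0547.result D).trans hd
  -- flat base change
  obtain ⟨e⟩ := fbProp (R' := AdicCompletion (maximalIdeal D) D) (maximalIdeal D) d D
  have h0 : Subsingleton (AdicCompletion (maximalIdeal D) D ⊗[D] LocCoh.H (maximalIdeal D) d D) := by
    constructor
    intro a b
    have : ∀ z : AdicCompletion (maximalIdeal D) D ⊗[D] LocCoh.H (maximalIdeal D) d D, z = 0 := by
      intro z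
      induction z using TensorProduct.induction_on with
      | zero => rfl
      | tmul x y => rw [Subsingleton.elim y 0, TensorProduct.tmul_zero]
      | add x y hx hy => rw [hx, hy, add_zero]
    rw [this a, this b]
  have h1 : Subsingleton (LocCoh.H ((maximalIdeal D).map
      (algebraMap D (AdicCompletion (maximalIdeal D) D))) d
      (AdicCompletion (maximalIdeal D) D ⊗[D] D)) := e.symm.toEquiv.subsingleton
  have h2 : Subsingleton (LocCoh.H ((maximalIdeal D).map
      (algebraMap D (AdicCompletion (maximalIdeal D) D))) d (AdicCompletion (maximalIdeal D) D)) :=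
    subsingleton_H_of_linearEquiv _
      (TensorProduct.AlgebraTensorModule.rid D (AdicCompletion (maximalIdeal D) D)
        (AdicCompletion (maximalIdeal D) D)) d h1
  rw [← AdicCompletion.maximalIdeal_eq_map] at h2
  haveI : IsAdicComplete (maximalIdeal (AdicCompletion (maximalIdeal D) D))
      (AdicCompletion (maximalIdeal D) D) :=
    AdicCompletion.isAdicComplete_of_fg (maximalIdeal D).fg_of_isNoetherianRing
  have h3 := nontrivial_of_complete (AdicCompletion (maximalIdeal D) D) d hdim
  exact not_subsingleton _ h2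

/-- **Grothendieck's non-vanishing theorem**: for a finitely generated module `M` over a Noetherian
local ring with `dim Supp M = d`, the local cohomology `H^d_m(M)` is nonzero. -/
theorem nonvanishing (R : Type u) [CommRing R] [IsNoetherianRing R] [IsLocalRing R] (M : Type u)
    [AddCommGroup M] [Module R M] [Module.Finite R M] (d : ℕ)
    (hd : Module.supportDim R M = d) : Nontrivial (LocCoh.H (maximalIdeal R) d M) :=
  nontrivial_of_domainNV d (domainNV d) R M hd

/-- ring case -/
theorem nonvanishing_ring (R : Type u) [CommRing R] [IsNoetherianRing R] [IsLocalRing R] (d : ℕ)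
    (hd : ringKrullDim R = d) : Nontrivial (LocCoh.H (maximalIdeal R) d R) :=
  nonvanishing R R d (by rw [Module.supportDim_self_eq_ringKrullDim, hd])

end Groth.Agent.H58.NV
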