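import Groth.Agent.H58.NV.Height

/-!
# The easy half of the Hartshorne–Lichtenbaum theorem
-/
set_option autoImplicit false
set_option linter.unusedSectionVars false
set_option linter.style.haveILetI false
universe u
open CategoryTheory CategoryTheory.Limits Opposite Pointwise TensorProduct

namespace Groth.Agent.H58.NV

open Groth.Agent.H58.LC IsLocalRing

/-- If `b + P` is primary to the maximal ideal for a prime `P` with `dim C/P = dim C = n`, then
`H^n_b(C) ≠ 0`. -/
theorem nontrivial_H_of_primary (C : Type u) [CommRing C] [IsNoetherianRing C] [IsLocalRing C]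
    (n : ℕ) (hn : ringKrullDim C = n) (b : Ideal C) (hb : b ≠ ⊤) (P : Ideal C) [hP : P.IsPrime]
    (hPn : ringKrullDim (C ⧸ P) = n)
    (hprim : ∀ Q : Ideal C, Q.IsPrime → b ⊔ P ≤ Q → Q = maximalIdeal C) :
    Nontrivial (LocCoh.H b n C) := by
  haveI : Nontrivial (C ⧸ P) := Ideal.Quotient.nontrivial_iff.2 hP.ne_top
  haveI : IsLocalRing (C ⧸ P) :=
    IsLocalRing.of_surjective' (Ideal.Quotient.mk P) Ideal.Quotient.mk_surjective
  have h1 := nonvanishing_ring (C ⧸ P) n hPn
  have hmax : (maximalIdeal C).map (Ideal.Quotient.mk P) = maximalIdeal (C ⧸ P) :=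
    map_maximalIdeal_of_surjective (Ideal.Quotient.mk P) Ideal.Quotient.mk_surjective
  have hle : b.map (algebraMap C (C ⧸ P)) ≤ maximalIdeal (C ⧸ P) := by
    rw [← hmax]
    exact Ideal.map_mono (le_maximalIdeal hb)
  have hcmp := comparison _ _ hle (C ⧸ P) n
  have hinj : Function.Injective
      ((Dual2.HmapOfLE hle n).app (ModuleCat.of _ (C ⧸ P))).hom := by
    apply hcmp.2
    intro Q hQ hQ'
    exfalso
    apply hQ'
    haveI := Q.2
    have h2 : b ≤ Q.asIdeal.comap (Ideal.Quotient.mk P) := Ideal.map_le_iff_le_comap.mp hQ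
    have h3 : P ≤ Q.asIdeal.comap (Ideal.Quotient.mk P) := by
      intro x hx
      rw [Ideal.mem_comap, Ideal.Quotient.eq_zero_iff_mem.2 hx]
      exact Ideal.zero_mem _
    have h4 := hprim _ (Ideal.comap_isPrime _ _) (sup_le h2 h3)
    rw [← hmax, Ideal.map_le_iff_le_comap, ← h4]
  have h5 : Nontrivial (LocCoh.H (b.map (algebraMap C (C ⧸ P))) n (C ⧸ P)) := by
    obtain ⟨x, y, hxy⟩ := h1
    exact ⟨_, _, fun h => hxy (hinj h)⟩
  obtain ⟨φ, -⟩ := indepProp (R' := C ⧸ P) b n (C ⧸ P)
  have h6 : Nontrivial (LocCoh.H b n (C ⧸ P)) := φ.symm.toEquiv.nontrivial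
  have hT : Module.supportDim C P < ((n + 1 : ℕ) : WithBot ℕ∞) := by
    refine lt_of_le_of_lt ((Module.supportDim_le_ringKrullDim C _).trans hn.le) ?_
    exact_mod_cast Nat.lt_succ_self n
  have hsurj := surjective_map_mkQ_top b n C P hT
  obtain ⟨x, y, hxy⟩ := h6
  obtain ⟨x', rfl⟩ := hsurj x
  obtain ⟨y', rfl⟩ := hsurj y
  exact ⟨x', y', fun h' => hxy (by rw [h'])⟩

/-- flat base change of vanishing to the completion -/
theorem subsingleton_H_completion (R : Type u) [CommRing R] [IsNoetherianRing R] [IsLocalRing R]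
    (a : Ideal R) (n : ℕ) (hvan : Subsingleton (LocCoh.H a n R)) :
    haveI : IsNoetherianRing (AdicCompletion (maximalIdeal R) R) :=
      Groth.Agent.H20.isNoetherianRing_adicCompletion (maximalIdeal R)
    Subsingleton (LocCoh.H (a.map (algebraMap R (AdicCompletion (maximalIdeal R) R))) n
      (AdicCompletion (maximalIdeal R) R)) := by
  haveI : IsNoetherianRing (AdicCompletion (maximalIdeal R) R) :=
    Groth.Agent.H20.isNoetherianRing_adicCompletion (maximalIdeal R)
  obtain ⟨e⟩ := fbProp (R' := AdicCompletion (maximalIdeal R) R) a n R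
  haveI : Subsingleton (AdicCompletion (maximalIdeal R) R ⊗[R] LocCoh.H a n R) :=
    subsingleton_tensor_of_subsingleton _ _
  have h1 : Subsingleton (LocCoh.H (a.map (algebraMap R (AdicCompletion (maximalIdeal R) R))) n
      (AdicCompletion (maximalIdeal R) R ⊗[R] R)) := e.symm.toEquiv.subsingleton
  exact subsingleton_H_of_linearEquiv _
    (TensorProduct.AlgebraTensorModule.rid R (AdicCompletion (maximalIdeal R) R)
      (AdicCompletion (maximalIdeal R) R)) n h1

theorem hl_easy (R : Type u) [CommRing R] [IsNoetherianRing R] [IsLocalRing R] (n : ℕ)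
    (hn : ringKrullDim R = n) (a : Ideal R) (ha : a ≠ ⊤) (hvan : Subsingleton (LocCoh.H a n R))
    (P : Ideal (AdicCompletion (maximalIdeal R) R)) [P.IsPrime]
    (hP : ringKrullDim ((AdicCompletion (maximalIdeal R) R) ⧸ P) = n) :
    1 ≤ ringKrullDim ((AdicCompletion (maximalIdeal R) R) ⧸
      (a.map (algebraMap R (AdicCompletion (maximalIdeal R) R)) ⊔ P)) := by
  haveI : IsNoetherianRing (AdicCompletion (maximalIdeal R) R) :=
    Groth.Agent.H20.isNoetherianRing_adicCompletion (maximalIdeal R)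
  have hdim : ringKrullDim (AdicCompletion (maximalIdeal R) R) = n :=
    (Groth.Agent.S0547.result R).trans hn
  have hbm : a.map (algebraMap R (AdicCompletion (maximalIdeal R) R)) ≤
      maximalIdeal (AdicCompletion (maximalIdeal R) R) := by
    rw [AdicCompletion.maximalIdeal_eq_map]
    exact Ideal.map_mono (le_maximalIdeal ha)
  have hbtop : a.map (algebraMap R (AdicCompletion (maximalIdeal R) R)) ≠ ⊤ := by
    intro h
    rw [h] at hbm
    exact (maximalIdeal.isMaximal _).ne_top (top_le_iff.mp hbm)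
  have hPm : P ≤ maximalIdeal (AdicCompletion (maximalIdeal R) R) :=
    le_maximalIdeal (Ideal.IsPrime.ne_top ‹_›)
  rw [ringKrullDim_quotient, Order.one_le_krullDim_iff]
  by_contra hcon
  push Not at hcon
  have h0 := subsingleton_H_completion R a n hvan
  have h1 := nontrivial_H_of_primary (AdicCompletion (maximalIdeal R) R) n hdim _ hbtop P hP ?_
  · exact not_subsingleton _ h0
  · intro Q hQ hJQ
    by_contra hne
    have hQm : Q ≤ maximalIdeal (AdicCompletion (maximalIdeal R) R) := le_maximalIdeal hQ.ne_top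
    have hlt : Q < maximalIdeal (AdicCompletion (maximalIdeal R) R) := lt_of_le_of_ne hQm hne
    refine hcon ⟨⟨Q, hQ⟩, ?_⟩ ⟨⟨maximalIdeal _, (maximalIdeal.isMaximal _).isPrime⟩, ?_⟩ hlt
    · exact hJQ
    · exact sup_le hbm hPm

end Groth.Agent.H58.NV
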