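import Groth.Agent.H58.NV.Functional

/-!
# Grothendieck non-vanishing, step 2: dimension bookkeeping and top right-exactness
-/
set_option autoImplicit false
set_option linter.unusedSectionVars false
universe u
open CategoryTheory CategoryTheory.Limits Opposite Pointwise

namespace Groth.Agent.H58.NV

open Groth.Agent.H58.LC

variable {R : Type u} [CommRing R]

/-- A prime of the support realizing the dimension of the support. -/
theorem exists_prime_dim_eq (M : Type u) [AddCommGroup M] [Module R M] (d : ℕ)
    (hd : Module.supportDim R M = d) :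
    ∃ p : PrimeSpectrum R, p ∈ Module.support R M ∧ ringKrullDim (R ⧸ p.asIdeal) = d := by
  obtain ⟨l, hl⟩ := Order.le_krullDim_iff.1 (le_of_eq hd.symm)
  refine ⟨l.head.1, l.head.2, le_antisymm ?_ ?_⟩
  · rw [ringKrullDim_quotient, ← hd]
    unfold Module.supportDim
    refine Order.krullDim_le_of_strictMono
      (fun q : PrimeSpectrum.zeroLocus (R := R) l.head.1.asIdeal =>
        (⟨q.1, Module.mem_support_mono (show l.head.1 ≤ q.1 from q.2) l.head.2⟩ :
          Module.support R M)) ?_
    intro a b hab
    exact hab
  · rw [ringKrullDim_quotient]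
    apply Order.le_krullDim_iff.2
    refine ⟨⟨l.length, fun i => (⟨(l i).1, ?_⟩ :
      PrimeSpectrum.zeroLocus (R := R) l.head.1.asIdeal), ?_⟩, hl⟩
    · show l.head.1 ≤ (l i).1
      exact LTSeries.head_le l i
    · intro i
      exact l.step i

variable [IsNoetherianRing R]

/-- top right-exactness: if `dim T ≤ d` then `H^d_I(M) → H^d_I(M/T)` is surjective -/
theorem surjective_map_mkQ_top (I : Ideal R) (d : ℕ) (M : Type u) [AddCommGroup M] [Module R M]
    (T : Submodule R M) (hT : Module.supportDim R T < ((d + 1 : ℕ) : WithBot ℕ∞)) :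
    Function.Surjective ((localCohomology I d).map (ModuleCat.ofHom T.mkQ)).hom := by
  have hS := shortExact_of T.subtype T.mkQ (Submodule.injective_subtype _)
    (Submodule.mkQ_surjective _) (LinearMap.exact_subtype_mkQ T)
  have hK : Subsingleton (LocCoh.H I (d + 1) T) := gv I (d + 1) T hT
  intro y
  exact exact₃ I d hS y (Subsingleton.elim (h := hK) _ _)

end Groth.Agent.H58.NV
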