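import Groth.Agent.H58.NV.Main

/-!
# Exactly one non-vanishing `H^i_m(M)` iff `M` is Cohen–Macaulay; `H^n_m(M)` is not finitely generated
-/
set_option autoImplicit false
set_option linter.unusedSectionVars false
set_option linter.style.haveILetI false
universe u
open CategoryTheory CategoryTheory.Limits Opposite Pointwise TensorProduct

namespace Groth.Agent.H58.NV

open Groth.Agent.H58.LC IsLocalRing

variable (R : Type u) [CommRing R] [IsNoetherianRing R] [IsLocalRing R] (M : Type u)
  [AddCommGroup M] [Module R M] [Module.Finite R M]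

theorem exists_nat_supportDim [Nontrivial M] : ∃ d : ℕ, Module.supportDim R M = d := by
  have h1 : Module.supportDim R M ≠ ⊥ := (Module.supportDim_ne_bot_iff_nontrivial R M).2 ‹_›
  have h2 : Module.supportDim R M ≠ ⊤ :=
    ne_top_of_le_ne_top ringKrullDim_ne_top (Module.supportDim_le_ringKrullDim R M)
  obtain ⟨x, hx⟩ := WithBot.ne_bot_iff_exists.mp h1
  have hx' : x ≠ ⊤ := by
    rintro rfl
    exact h2 hx.symm
  obtain ⟨d, hd⟩ := ENat.ne_top_iff_exists.mp hx'
  exact ⟨d, by rw [← hx, ← hd]; rfl⟩

theorem smul_top_ne_top [Nontrivial M] : maximalIdeal R • (⊤ : Submodule R M) ≠ ⊤ :=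
  (Submodule.top_ne_ideal_smul_of_le_jacobson_annihilator
    (IsLocalRing.maximalIdeal_le_jacobson _)).symm

theorem unique_iff_cm [Nontrivial M] :
    (∃! i : ℕ, Nontrivial (LocCoh.H (maximalIdeal R) i M)) ↔ LocCoh.IsCohenMacaulayModule R M := by
  have hne := smul_top_ne_top R M
  obtain ⟨d, hd⟩ := exists_nat_supportDim R M
  have hNd := nonvanishing R M d hd
  have hfin : LocCoh.idealDepth (maximalIdeal R) M ≠ ⊤ := by
    intro htop
    have := subsingleton_H_of_lt_idealDepth (maximalIdeal R) M hne d
      (by rw [htop]; exact ENat.coe_lt_top d)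
    exact not_subsingleton _ this
  obtain ⟨t, ht⟩ := ENat.ne_top_iff_exists.mp hfin
  have hNt := nontrivial_H_of_idealDepth_eq (maximalIdeal R) M hne t ht.symm
  unfold LocCoh.IsCohenMacaulayModule LocCoh.depth
  rw [hd, ← ht]
  constructor
  · rintro ⟨i, hi, huniq⟩
    have h1 := huniq d hNd
    have h2 := huniq t hNt
    rw [h1, ← h2]
    rfl
  · intro h
    have hdt : d = t := by
      have : ((d : ℕ∞) : WithBot ℕ∞) = ((t : ℕ∞) : WithBot ℕ∞) := h
      exact_mod_cast WithBot.coe_injective this
    refine ⟨d, hNd, fun j hj => ?_⟩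
    by_contra hjd
    rcases lt_or_gt_of_ne hjd with hlt | hgt
    · have := subsingleton_H_of_lt_idealDepth (maximalIdeal R) M hne j
        (by rw [← ht, ← hdt]; exact_mod_cast hlt)
      exact not_subsingleton _ this
    · have := gv (maximalIdeal R) j M (by rw [hd]; exact_mod_cast hgt)
      exact not_subsingleton _ this

end Groth.Agent.H58.NV
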