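import Groth.Agent.H58.NV.Reduce
import Groth.Agent.H58.LCCompare
import Groth.Agent.H58.LCDepthExt
import Groth.Agent.S0581
import Groth.Agent.H29.ComplCat
import Groth.Agent.H54.Dim

/-!
# Grothendieck non-vanishing, step 4: complete local domains (via Cohen's structure theorem)
-/
set_option autoImplicit false
set_option linter.unusedSectionVars false
set_option linter.style.haveILetI false
universe u
open CategoryTheory CategoryTheory.Limits Opposite Pointwise

namespace Groth.Agent.H58.NV

open Groth.Agent.H58.LC IsLocalRing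

/-- a Cohen–Macaulay local ring of dimension `d` has non-vanishing `H^d_m` -/
theorem nontrivial_of_isCM (A : Type u) [CommRing A] (hCM : LocCoh.IsCohenMacaulayLocalRing A)
    (d : ℕ) (hd : ringKrullDim A = d) :
    haveI : IsLocalRing A := hCM.toIsLocalRing
    Nontrivial (LocCoh.H (maximalIdeal A) d A) := by
  haveI : IsLocalRing A := hCM.toIsLocalRing
  haveI : IsNoetherianRing A := hCM.toIsNoetherian
  have h1 := hCM.supportDim_eq_depth
  rw [Module.supportDim_self_eq_ringKrullDim, hd] at h1
  have h2 : LocCoh.idealDepth (maximalIdeal A) A = d := by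
    have : ((d : ℕ∞) : WithBot ℕ∞) = ((LocCoh.depth A A : ℕ∞) : WithBot ℕ∞) := h1
    exact (WithBot.coe_injective this).symm
  apply nontrivial_H_of_idealDepth_eq (maximalIdeal A) A _ d h2
  intro htop
  have h3 : (maximalIdeal A) • (⊤ : Submodule A A) = maximalIdeal A := by
    simp
  rw [h3] at htop
  exact (maximalIdeal.isMaximal A).ne_top htop

theorem nontrivial_of_complete_domain (D : Type u) [CommRing D] [IsDomain D] [IsNoetherianRing D]
    [IsLocalRing D] [IsAdicComplete (maximalIdeal D) D] (d : ℕ) (hd : ringKrullDim D = d) :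
    Nontrivial (LocCoh.H (maximalIdeal D) d D) := by
  obtain ⟨Λ, hΛ, n, f, hΛ', hinj, hfin, -⟩ := Groth.Agent.S0581.result D
  have hCM : LocCoh.IsCohenMacaulayLocalRing (MvPowerSeries (Fin n) Λ) := by
    rcases hΛ' with h | h
    · exact Groth.Agent.H29.ComplCat.isCM_mvPowerSeries Λ
        (Groth.Agent.H29.ComplCat.isCM_of_isField Λ h) n
    · exact Groth.Agent.H29.ComplCat.isCM_mvPowerSeries Λ
        (Groth.Agent.H29.ComplCat.isCM_of_isCohenRing Λ h) n
  haveI : IsNoetherianRing (MvPowerSeries (Fin n) Λ) := hCM.toIsNoetherian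
  haveI : IsLocalRing (MvPowerSeries (Fin n) Λ) := hCM.toIsLocalRing
  letI : Algebra (MvPowerSeries (Fin n) Λ) D := f.toAlgebra
  haveI : Module.Finite (MvPowerSeries (Fin n) Λ) D := hfin
  haveI : IsDomain (MvPowerSeries (Fin n) Λ) := hinj.isDomain f
  have hinj' : Function.Injective (algebraMap (MvPowerSeries (Fin n) Λ) D) := hinj
  have hdimA : ringKrullDim (MvPowerSeries (Fin n) Λ) = d :=
    (Groth.Agent.H54.ringKrullDim_eq_of_isIntegral_of_injective hinj').trans hd
  have hA : Nontrivial (LocCoh.H (maximalIdeal (MvPowerSeries (Fin n) Λ)) d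
      (MvPowerSeries (Fin n) Λ)) := nontrivial_of_isCM _ hCM d hdimA
  have hN : Nontrivial (LocCoh.H (maximalIdeal (MvPowerSeries (Fin n) Λ)) d D) := by
    refine nontrivial_of_nonTorsion _ d hdimA hA D 1 ?_
    intro a ha
    rw [Algebra.smul_def, mul_one] at ha
    exact hinj' (by rw [ha, map_zero])
  obtain ⟨φ, -⟩ := indepProp (R' := D) (maximalIdeal (MvPowerSeries (Fin n) Λ)) d D
  have h1 : Nontrivial (LocCoh.H ((maximalIdeal (MvPowerSeries (Fin n) Λ)).map
      (algebraMap (MvPowerSeries (Fin n) Λ) D)) d D) := φ.toEquiv.nontrivial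
  -- comparison of supports
  have hcomap : (maximalIdeal D).comap (algebraMap (MvPowerSeries (Fin n) Λ) D) =
      maximalIdeal (MvPowerSeries (Fin n) Λ) :=
    eq_maximalIdeal (Ideal.isMaximal_comap_of_isIntegral_of_isMaximal (maximalIdeal D))
  have hle : (maximalIdeal (MvPowerSeries (Fin n) Λ)).map
      (algebraMap (MvPowerSeries (Fin n) Λ) D) ≤ maximalIdeal D := by
    rw [Ideal.map_le_iff_le_comap, hcomap]
  have hcmp := (comparison _ _ hle D d)
  have hsurj : Function.Surjective ((Dual2.HmapOfLE hle d).app (ModuleCat.of D D)).hom := by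
    apply hcmp.1
    intro P hP hP'
    exfalso
    apply hP'
    haveI := P.2
    have h2 : maximalIdeal (MvPowerSeries (Fin n) Λ) ≤
        P.asIdeal.comap (algebraMap (MvPowerSeries (Fin n) Λ) D) :=
      Ideal.map_le_iff_le_comap.mp hP
    have h3 : P.asIdeal.comap (algebraMap (MvPowerSeries (Fin n) Λ) D) =
        maximalIdeal (MvPowerSeries (Fin n) Λ) :=
      ((maximalIdeal.isMaximal _).eq_of_le (Ideal.comap_ne_top _ P.2.ne_top) h2).symm
    have h4 : P.asIdeal.IsMaximal :=
      Ideal.isMaximal_of_isIntegral_of_isMaximal_comap (R := MvPowerSeries (Fin n) Λ) P.asIdeal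
        (by rw [h3]; exact maximalIdeal.isMaximal _)
    rw [eq_maximalIdeal h4]
  obtain ⟨a, b, hab⟩ := h1
  obtain ⟨a', rfl⟩ := hsurj a
  obtain ⟨b', rfl⟩ := hsurj b
  exact ⟨a', b', fun h' => hab (by rw [h'])⟩

end Groth.Agent.H58.NV
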