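import Groth.Agent.H58.LCTop
import Groth.Agent.H58.LCFaltings

/-!
# Grothendieck non-vanishing, step 1: functionals and transfer of top local cohomology
-/
set_option autoImplicit false
set_option linter.unusedSectionVars false
universe u
open CategoryTheory CategoryTheory.Limits Opposite Pointwise

namespace Groth.Agent.H58.NV

open Groth.Agent.H58.LC

/-- A non-torsion element of a finite module over a domain is detected by a functional. -/
theorem exists_functional {A : Type u} [CommRing A] [IsDomain A] (N : Type u) [AddCommGroup N]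
    [Module A N] [Module.Finite A N] (n₀ : N) (hn₀ : ∀ a : A, a • n₀ = 0 → a = 0) :
    ∃ f : N →ₗ[A] A, f n₀ ≠ 0 := by
  classical
  let S := nonZeroDivisors A
  let K := FractionRing A
  let V := LocalizedModule S N
  have hv₀ : (LocalizedModule.mk n₀ (1 : S) : V) ≠ 0 := by
    intro h
    rw [← LocalizedModule.zero_mk (1 : S), LocalizedModule.mk_eq] at h
    obtain ⟨t, ht⟩ := h
    rw [one_smul, one_smul, smul_zero] at ht
    have := hn₀ (t : A) ht
    exact nonZeroDivisors.coe_ne_zero t this
  obtain ⟨φ, hφ⟩ : ∃ φ : Module.Dual K V, φ (LocalizedModule.mk n₀ (1 : S)) ≠ 0 := by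
    by_contra hcon
    push Not at hcon
    exact hv₀ ((Module.forall_dual_apply_eq_zero_iff K _).mp hcon)
  obtain ⟨T, hT⟩ := (Module.Finite.fg_top : (⊤ : Submodule A N).FG)
  obtain ⟨b, hb⟩ := IsLocalization.exist_integer_multiples_of_finset S
    (T.image (fun n => φ (LocalizedModule.mk n (1 : S))))
  let ψ : N →ₗ[A] K := (b : A) • ((φ.restrictScalars A).comp (LocalizedModule.mkLinearMap S N))
  have hψ : ∀ n, ψ n = (b : A) • φ (LocalizedModule.mk n (1 : S)) := fun n => rfl
  have hrange : ∀ n, ψ n ∈ LinearMap.range (Algebra.linearMap A K) := by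
    intro n
    have hn : n ∈ Submodule.span A (T : Set N) := by rw [hT]; trivial
    induction hn using Submodule.span_induction with
    | mem x hx =>
      obtain ⟨a, ha⟩ := hb _ (Finset.mem_image_of_mem _ hx)
      refine ⟨a, ?_⟩
      rw [hψ]
      exact ha
    | zero => rw [map_zero]; exact Submodule.zero_mem _
    | add x y _ _ hx hy => rw [map_add]; exact Submodule.add_mem _ hx hy
    | smul a x _ hx => rw [map_smul]; exact Submodule.smul_mem _ _ hx
  have hinj : Function.Injective (Algebra.linearMap A K) := IsFractionRing.injective A K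
  let f : N →ₗ[A] A := (LinearEquiv.ofInjective (Algebra.linearMap A K) hinj).symm.toLinearMap.comp
    (ψ.codRestrict _ hrange)
  refine ⟨f, fun h0 => ?_⟩
  have h1 : Algebra.linearMap A K (f n₀) = ψ n₀ := by
    have := (LinearEquiv.ofInjective (Algebra.linearMap A K) hinj).apply_symm_apply
      (ψ.codRestrict _ hrange n₀)
    exact congrArg Subtype.val this
  rw [h0, map_zero, hψ] at h1
  have h2 := h1.symm
  rw [Algebra.smul_def, mul_eq_zero] at h2
  rcases h2 with h2 | h2
  · exact nonZeroDivisors.coe_ne_zero b ((IsFractionRing.injective A K) (by rw [h2, map_zero]))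
  · exact hφ h2

variable {R : Type u} [CommRing R] [IsNoetherianRing R]

/-- If multiplication by `f n₀` is surjective on `H^d_I(R) ≠ 0`, then `H^d_I(N) ≠ 0`. -/
theorem nontrivial_of_functional (I : Ideal R) (d : ℕ) (N : Type u) [AddCommGroup N] [Module R N]
    (f : N →ₗ[R] R) (n₀ : N)
    (hsurj : Function.Surjective (fun ξ : LocCoh.H I d R => f n₀ • ξ))
    (hnt : Nontrivial (LocCoh.H I d R)) : Nontrivial (LocCoh.H I d N) := by
  by_contra hcon
  rw [not_nontrivial_iff_subsingleton] at hcon
  obtain ⟨ξ, hξ⟩ := exists_ne (0 : LocCoh.H I d R)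
  obtain ⟨η, hη⟩ := hsurj ξ
  apply hξ
  rw [← hη]
  show f n₀ • η = 0
  let g : R →ₗ[R] N := LinearMap.toSpanSingleton R N n₀
  have hfg : ModuleCat.ofHom (LinearMap.lsmul R R (f n₀)) =
      ModuleCat.ofHom g ≫ ModuleCat.ofHom f := by
    apply ModuleCat.hom_ext
    apply LinearMap.ext
    intro r
    show f n₀ * r = f (r • n₀)
    rw [map_smul, smul_eq_mul, mul_comm]
  rw [← map_lsmul_apply I R (f n₀) d η, hfg, Functor.map_comp]
  show ((localCohomology I d).map (ModuleCat.ofHom f)).hom
    (((localCohomology I d).map (ModuleCat.ofHom g)).hom η) = 0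
  have : ((localCohomology I d).map (ModuleCat.ofHom g)).hom η = 0 := hcon.elim _ _
  rw [this, map_zero]

end Groth.Agent.H58.NV
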