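import Groth.Agent.H58.NV.Main

/-!
# `H^h_I(R) ≠ 0` for `h = ht I`
-/
set_option autoImplicit false
set_option linter.unusedSectionVars false
set_option linter.style.haveILetI false
universe u
open CategoryTheory CategoryTheory.Limits Opposite Pointwise TensorProduct

namespace Groth.Agent.H58.NV

open Groth.Agent.H58.LC IsLocalRing

theorem subsingleton_tensor_of_subsingleton {R : Type u} [CommRing R] (A : Type u) [CommRing A]
    [Algebra R A] (H : Type u) [AddCommGroup H] [Module R H] [Subsingleton H] :
    Subsingleton (A ⊗[R] H) := by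
  constructor
  intro a b
  have : ∀ z : A ⊗[R] H, z = 0 := by
    intro z
    induction z using TensorProduct.induction_on with
    | zero => rfl
    | tmul x y => rw [Subsingleton.elim y 0, TensorProduct.tmul_zero]
    | add x y hx hy => rw [hx, hy, add_zero]
  rw [this a, this b]

theorem nontrivial_H_height (R : Type u) [CommRing R] [IsNoetherianRing R] (I : Ideal R)
    (h : ℕ) (hh : I.height = h) : Nontrivial (LocCoh.H I h R) := by
  by_contra hcon
  rw [not_nontrivial_iff_subsingleton] at hcon
  obtain ⟨p, hp, hIp, hph⟩ := Ideal.exists_isPrime_height_eq hh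
  have hpmin : p ∈ I.minimalPrimes :=
    Ideal.mem_minimalPrimes_of_height_le hIp (by rw [hph, hh])
  obtain ⟨e⟩ := fbProp (R' := Localization.AtPrime p) I h R
  haveI : Subsingleton (Localization.AtPrime p ⊗[R] LocCoh.H I h R) :=
    subsingleton_tensor_of_subsingleton _ _
  have h1 : Subsingleton (LocCoh.H (I.map (algebraMap R (Localization.AtPrime p))) h
      (Localization.AtPrime p ⊗[R] R)) := e.symm.toEquiv.subsingleton
  have h2 : Subsingleton (LocCoh.H (I.map (algebraMap R (Localization.AtPrime p))) h
      (Localization.AtPrime p)) :=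
    subsingleton_H_of_linearEquiv _
      (TensorProduct.AlgebraTensorModule.rid R (Localization.AtPrime p) (Localization.AtPrime p))
      h h1
  have hdim : ringKrullDim (Localization.AtPrime p) = h := by
    rw [IsLocalization.AtPrime.ringKrullDim_eq_height p, hph]
    rfl
  have h3 := nonvanishing_ring (Localization.AtPrime p) h hdim
  have hle : I.map (algebraMap R (Localization.AtPrime p)) ≤ maximalIdeal (Localization.AtPrime p) := by
    rw [← Localization.AtPrime.map_eq_maximalIdeal]
    exact Ideal.map_mono hIp
  have hcmp := comparison _ _ hle (Localization.AtPrime p) h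
  have hvac : ∀ Q : PrimeSpectrum (Localization.AtPrime p),
      I.map (algebraMap R (Localization.AtPrime p)) ≤ Q.asIdeal →
      ¬ maximalIdeal (Localization.AtPrime p) ≤ Q.asIdeal → False := by
    intro Q hQ hQ'
    apply hQ'
    haveI := Q.2
    -- the contraction of `Q` is a prime between `I` and `p`
    have h4 : I ≤ Q.asIdeal.comap (algebraMap R (Localization.AtPrime p)) :=
      Ideal.map_le_iff_le_comap.mp hQ
    have h5 : Q.asIdeal.comap (algebraMap R (Localization.AtPrime p)) ≤ p := by
      have hQm : Q.asIdeal ≤ maximalIdeal (Localization.AtPrime p) := le_maximalIdeal Q.2.ne_top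
      have h7 := Ideal.comap_mono (f := algebraMap R (Localization.AtPrime p)) hQm
      have hc : Ideal.comap (algebraMap R (Localization.AtPrime p))
          (maximalIdeal (Localization.AtPrime p)) = p := Localization.AtPrime.comap_maximalIdeal
      rwa [hc] at h7
    have h6 : p ≤ Q.asIdeal.comap (algebraMap R (Localization.AtPrime p)) :=
      hpmin.2 ⟨Ideal.comap_isPrime _ _, h4⟩ h5
    rw [← Localization.AtPrime.map_eq_maximalIdeal]
    exact Ideal.map_le_iff_le_comap.mpr h6
  have hinj : Function.Injective
      ((Dual2.HmapOfLE hle h).app (ModuleCat.of _ (Localization.AtPrime p))).hom :=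
    hcmp.2 (fun Q hQ hQ' => (hvac Q hQ hQ').elim)
  obtain ⟨a, b, hab⟩ := h3
  exact hab (hinj (Subsingleton.elim (h := h2) _ _))

end Groth.Agent.H58.NV
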