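import Groth.Agent.H58.LCLocSeq
import Groth.Agent.H58.LCArith

/-!
# The "Čech" presentation of top local cohomology for `k` generators

For `a_1, …, a_k` generating `I` and `x = a_1 ⋯ a_k` we construct maps `κ_t : M → H^k_I(M)` which kill
`(a_1^t, …, a_k^t) M`, satisfy `κ_{t+1}(x m) = κ_t(m)` and are jointly surjective.
-/
set_option autoImplicit false
set_option linter.unusedSectionVars false
set_option linter.style.haveILetI false
universe u
open CategoryTheory CategoryTheory.Limits Opposite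

namespace Groth.Agent.H58.NV

open Groth.Agent.H58 Groth.Agent.H58.LC

variable {R : Type u} [CommRing R] [IsNoetherianRing R]

/-- `n ↦ n / b^t` -/
noncomputable def divPow (b : R) (N : Type u) [AddCommGroup N] [Module R N] (t : ℕ) :
    N →ₗ[R] LocalizedModule (Submonoid.powers b) N where
  toFun n := IsLocalizedModule.mk' (LocalizedModule.mkLinearMap (Submonoid.powers b) N) n
    (⟨b ^ t, ⟨t, rfl⟩⟩ : Submonoid.powers b)
  map_add' := fun x y => IsLocalizedModule.mk'_add _ x y _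
  map_smul' := fun r x => IsLocalizedModule.mk'_smul _ r x _

/-- the maps `∂_t : N → H^1_{(b)}(N)`, `n ↦ [n / b^t]` -/
theorem exists_partial (b : R) (N : Type u) [AddCommGroup N] [Module R N] :
    ∃ d : ℕ → (N →ₗ[R] (localCohomology (Ideal.span {b}) 1).obj (ModuleCat.of R N)),
      (∀ t n, d t (b ^ t • n) = 0) ∧ (∀ t n, d (t + 1) (b • n) = d t n) ∧
      (∀ ξ, ∃ t n, d t n = ξ) := by
  let e := dtPrincipalEquiv b N
  let c := cokerToDTEquiv (Ideal.span {b}) N
  let q := (LinearMap.range (LocCoh.toDT (Ideal.span {b}) N)).mkQ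
  refine ⟨fun t => c.toLinearMap ∘ₗ q ∘ₗ e.symm.toLinearMap ∘ₗ divPow b N t, ?_, ?_, ?_⟩
  · intro t n
    simp only [LinearMap.coe_comp, LinearEquiv.coe_coe, Function.comp_apply]
    have h1 : divPow b N t (b ^ t • n) = LocalizedModule.mkLinearMap (Submonoid.powers b) N n := by
      show IsLocalizedModule.mk' _ (b ^ t • n) (⟨b ^ t, ⟨t, rfl⟩⟩ : Submonoid.powers b) = _
      exact IsLocalizedModule.mk'_cancel _ n (⟨b ^ t, ⟨t, rfl⟩⟩ : Submonoid.powers b)
    have h2 : e.symm (divPow b N t (b ^ t • n)) = LocCoh.toDT (Ideal.span {b}) N n := by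
      rw [h1, LinearEquiv.symm_apply_eq]
      exact (LinearMap.congr_fun (dtPrincipalEquiv_comp_toDT b N) n).symm
    rw [h2]
    have : q (LocCoh.toDT (Ideal.span {b}) N n) = 0 := by
      rw [Submodule.mkQ_apply, Submodule.Quotient.mk_eq_zero]
      exact ⟨n, rfl⟩
    rw [this, map_zero]
  · intro t n
    simp only [LinearMap.coe_comp, LinearEquiv.coe_coe, Function.comp_apply]
    have h1 : divPow b N (t + 1) (b • n) = divPow b N t n := by
      show IsLocalizedModule.mk' _ (b • n) (⟨b ^ (t + 1), ⟨t + 1, rfl⟩⟩ : Submonoid.powers b) =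
        IsLocalizedModule.mk' _ n (⟨b ^ t, ⟨t, rfl⟩⟩ : Submonoid.powers b)
      have h2 : (⟨b ^ (t + 1), ⟨t + 1, rfl⟩⟩ : Submonoid.powers b) =
          (⟨b, ⟨1, pow_one b⟩⟩ : Submonoid.powers b) * ⟨b ^ t, ⟨t, rfl⟩⟩ := by
        apply Subtype.ext
        show b ^ (t + 1) = b * b ^ t
        rw [pow_succ, mul_comm]
      rw [h2]
      exact IsLocalizedModule.mk'_cancel_left _ n (⟨b, ⟨1, pow_one b⟩⟩ : Submonoid.powers b) _
    rw [h1]
  · intro ξ
    obtain ⟨y, rfl⟩ := c.surjective ξ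
    obtain ⟨y, rfl⟩ := Submodule.Quotient.mk_surjective _ y
    obtain ⟨⟨n, s⟩, hns⟩ := IsLocalizedModule.mk'_surjective (Submonoid.powers b)
      (LocalizedModule.mkLinearMap (Submonoid.powers b) N) (e y)
    obtain ⟨t, ht⟩ := s.2
    refine ⟨t, n, ?_⟩
    simp only [LinearMap.coe_comp, LinearEquiv.coe_coe, Function.comp_apply]
    have h1 : divPow b N t n = e y := by
      rw [← hns]
      show IsLocalizedModule.mk' _ n (⟨b ^ t, ⟨t, rfl⟩⟩ : Submonoid.powers b) = _
      have : (⟨b ^ t, ⟨t, rfl⟩⟩ : Submonoid.powers b) = s := Subtype.ext ht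
      rw [this]
      rfl
    rw [h1, LinearEquiv.symm_apply_apply]
    rfl

/-- the Čech-type presentation of `H^k_I` -/
def HasKappa (I : Ideal R) (k : ℕ) (x : R) (A : ℕ → Ideal R) : Prop :=
  ∀ (M : Type u) [AddCommGroup M] [Module R M],
    ∃ κ : ℕ → (M →ₗ[R] LocCoh.H I k M),
      (∀ t, ∀ r ∈ A t, ∀ m, κ t (r • m) = 0) ∧ (∀ t m, κ (t + 1) (x • m) = κ t m) ∧
      (∀ ξ, ∃ t m, κ t m = ξ)

theorem hasKappa_bot : HasKappa (⊥ : Ideal R) 0 1 (fun _ => ⊥) := by
  intro M _ _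
  have hmem : ∀ m : M, m ∈ DRing.torsionSub (⊥ : Ideal R) M := by
    intro m
    refine ⟨1, fun a ha => ?_⟩
    rw [pow_one, Ideal.mem_bot] at ha
    rw [ha, zero_smul]
  let g : M →ₗ[R] DRing.torsionSub (⊥ : Ideal R) M := LinearMap.codRestrict _ LinearMap.id hmem
  refine ⟨fun _ => (H0equiv (⊥ : Ideal R) (ModuleCat.of R M)).symm.toLinearMap ∘ₗ g, ?_, ?_, ?_⟩
  · intro t r hr m
    rw [Ideal.mem_bot] at hr
    rw [hr, zero_smul, map_zero]
  · intro t m
    rw [one_smul]
  · intro ξ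
    refine ⟨0, ((H0equiv (⊥ : Ideal R) (ModuleCat.of R M)) ξ : M), ?_⟩
    simp only [LinearMap.coe_comp, LinearEquiv.coe_coe, Function.comp_apply]
    rw [LinearEquiv.symm_apply_eq]
    apply Subtype.ext
    rfl

theorem kappa_iter {I : Ideal R} {k : ℕ} {x : R} {M : Type u} [AddCommGroup M] [Module R M]
    (κ : ℕ → (M →ₗ[R] LocCoh.H I k M)) (h2 : ∀ t m, κ (t + 1) (x • m) = κ t m) (t s : ℕ) (m : M) :
    κ (t + s) (x ^ s • m) = κ t m := by
  induction s generalizing m with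
  | zero => rw [pow_zero, one_smul, add_zero]
  | succ s ih =>
    rw [← add_assoc, pow_succ, mul_smul, smul_comm (x ^ s) x m, h2 (t + s) (x ^ s • m), ih]

theorem hasKappa_step (I : Ideal R) (k : ℕ) (x : R) (A : ℕ → Ideal R) (b : R)
    (hK : HasKappa I k x A)
    (hvan : ∀ M : ModuleCat.{u} R, Subsingleton ((localCohomology I (k + 1)).obj M)) :
    HasKappa (I ⊔ Ideal.span {b}) (k + 1) (x * b) (fun t => A t ⊔ Ideal.span {b ^ t}) := by
  intro M _ _
  obtain ⟨κ, hκ1, hκ2, hκ3⟩ := hK M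
  let J := injectiveResolution (ModuleCat.of R M)
  obtain ⟨d, hd1, hd2, hd3⟩ := exists_partial b (LocCoh.H I k M)
  let E := kerHmapEquiv I b J k
  have hd_iter : ∀ (t s : ℕ) (n : LocCoh.H I k M), d (t + s) (b ^ s • n) = d t n := by
    intro t s n
    induction s generalizing n with
    | zero => rw [pow_zero, one_smul, add_zero]
    | succ s ih =>
      rw [← add_assoc, pow_succ, mul_smul, smul_comm (b ^ s) b n, hd2 (t + s) (b ^ s • n), ih]
  refine ⟨fun t => (Submodule.subtype _) ∘ₗ E.symm.toLinearMap ∘ₗ d t ∘ₗ κ t, ?_, ?_, ?_⟩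
  · intro t r hr m
    obtain ⟨r₁, hr₁, r₂, hr₂, rfl⟩ := Submodule.mem_sup.mp hr
    obtain ⟨c, rfl⟩ := Ideal.mem_span_singleton'.mp hr₂
    simp only [LinearMap.coe_comp, LinearEquiv.coe_coe, Function.comp_apply, Submodule.subtype_apply]
    rw [add_smul, map_add, hκ1 t r₁ hr₁ m, zero_add, mul_comm, mul_smul, map_smul, hd1, map_zero]
    rfl
  · intro t m
    simp only [LinearMap.coe_comp, LinearEquiv.coe_coe, Function.comp_apply, Submodule.subtype_apply]
    rw [mul_smul, hκ2 t (b • m), map_smul, hd2]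
  · intro ξ
    have hξ : ξ ∈ LinearMap.ker
        ((Dual2.HmapOfLE (le_sup_left : I ≤ I ⊔ Ideal.span {b}) (k + 1)).app (ModuleCat.of R M)).hom := by
      rw [LinearMap.mem_ker]
      exact Subsingleton.elim (h := hvan _) _ _
    obtain ⟨t, n, htn⟩ := hd3 (E ⟨ξ, hξ⟩)
    obtain ⟨t', m', rfl⟩ := hκ3 n
    refine ⟨t + t', b ^ t' • x ^ t • m', ?_⟩
    simp only [LinearMap.coe_comp, LinearEquiv.coe_coe, Function.comp_apply, Submodule.subtype_apply]
    have h1 : κ (t + t') (b ^ t' • x ^ t • m') = b ^ t' • κ t' m' := by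
      rw [map_smul, add_comm t t', kappa_iter κ hκ2 t' t m']
    rw [h1, hd_iter t t' (κ t' m'), htn, LinearEquiv.symm_apply_apply]

end Groth.Agent.H58.NV
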