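import Groth.Agent.H58.NV.Kappa
import Groth.Agent.H58.NV.Main

/-!
# The monomial conjecture in prime characteristic
-/
set_option autoImplicit false
set_option linter.unusedSectionVars false
set_option linter.style.haveILetI false
universe u
open CategoryTheory CategoryTheory.Limits Opposite

namespace Groth.Agent.H58.NV

open Groth.Agent.H58 Groth.Agent.H58.LC IsLocalRing

variable {R : Type u} [CommRing R] [IsNoetherianRing R]

theorem range_succ_eq {n : ℕ} (f : Fin (n + 1) → R) :
    Set.range f = Set.range (fun i : Fin n => f i.castSucc) ∪ {f (Fin.last n)} := by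
  ext y
  constructor
  · rintro ⟨i, rfl⟩
    induction i using Fin.lastCases with
    | last => exact Or.inr rfl
    | cast j => exact Or.inl ⟨j, rfl⟩
  · rintro (⟨j, rfl⟩ | h)
    · exact ⟨_, rfl⟩
    · rw [Set.mem_singleton_iff] at h
      exact ⟨_, h.symm⟩

theorem span_range_succ {n : ℕ} (f : Fin (n + 1) → R) :
    Ideal.span (Set.range f) =
      Ideal.span (Set.range (fun i : Fin n => f i.castSucc)) ⊔ Ideal.span {f (Fin.last n)} := by
  rw [range_succ_eq, Ideal.span_union]

theorem vanishing_range {n : ℕ} (a : Fin n → R) (M : ModuleCat.{u} R) (i : ℕ) (hi : n < i) :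
    Subsingleton ((localCohomology (Ideal.span (Set.range a)) i).obj M) := by
  classical
  have h1 : (Set.range a) = ((Finset.univ.image a : Finset R) : Set R) := by
    rw [Finset.coe_image, Finset.coe_univ, Set.image_univ]
  rw [h1]
  refine subsingleton_H_of_card_lt n _ ?_ M i hi
  exact (Finset.card_image_le).trans (by simp)

theorem hasKappa_fin : ∀ (n : ℕ) (a : Fin n → R),
    HasKappa (Ideal.span (Set.range a)) n (∏ i, a i)
      (fun t => Ideal.span (Set.range fun i => a i ^ t))
  | 0, a => by
    have h1 : Ideal.span (Set.range a) = ⊥ := by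
      rw [Set.range_eq_empty, Ideal.span_empty]
    have h2 : (fun t => Ideal.span (Set.range fun i => a i ^ t)) = fun _ : ℕ => (⊥ : Ideal R) := by
      funext t
      rw [Set.range_eq_empty, Ideal.span_empty]
    rw [h1, h2, Fin.prod_univ_zero]
    exact hasKappa_bot
  | n + 1, a => by
    have ih := hasKappa_fin n (fun i => a i.castSucc)
    have hstep := hasKappa_step _ n _ _ (a (Fin.last n)) ih
      (fun M => vanishing_range (fun i : Fin n => a i.castSucc) M (n + 1) (Nat.lt_succ_self n))
    rw [span_range_succ a, Fin.prod_univ_castSucc]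
    have h2 : (fun t => Ideal.span (Set.range fun i => a i ^ t)) =
        fun t => Ideal.span (Set.range fun i : Fin n => a i.castSucc ^ t) ⊔
          Ideal.span {a (Fin.last n) ^ t} := by
      funext t
      exact span_range_succ (fun i => a i ^ t)
    rw [h2]
    exact hstep

theorem monomial (p : ℕ) [Fact p.Prime] (R : Type u) [CommRing R] [IsNoetherianRing R]
    [IsLocalRing R] [CharP R p] (n : ℕ) (hdim : ringKrullDim R = n) (a : Fin n → R)
    (hsop : (Ideal.span (Set.range a)).radical = maximalIdeal R) (k : ℕ) :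
    (∏ i, a i) ^ k ∉ Ideal.span (Set.range fun i => a i ^ (k + 1)) := by
  intro hmem
  -- non-vanishing
  have hNT : Nontrivial (LocCoh.H (Ideal.span (Set.range a)) n R) := by
    have hrad : (Ideal.span (Set.range a)).radical = (maximalIdeal R).radical := by
      rw [hsop, (Ideal.IsMaximal.isPrime (maximalIdeal.isMaximal R)).radical]
    have e := ((localCohomology.isoOfSameRadical hrad n).app (ModuleCat.of R R)).toLinearEquiv
    haveI := nonvanishing_ring R n hdim
    exact e.toEquiv.nontrivial
  obtain ⟨κ, hκ1, hκ2, hκ3⟩ := hasKappa_fin n a R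
  set x := ∏ i, a i with hx
  -- Frobenius powers of the relation
  have hfrob : ∀ e : ℕ, x ^ (k * p ^ e) ∈
      Ideal.span (Set.range fun i => a i ^ (p ^ e + k * p ^ e)) := by
    intro e
    obtain ⟨c, hc⟩ := Ideal.mem_span_range_iff_exists_fun.mp hmem
    have h1 : x ^ (k * p ^ e) = ∑ i, (c i) ^ p ^ e * (a i ^ (p ^ e + k * p ^ e)) := by
      rw [pow_mul, ← hc, sum_pow_char_pow]
      refine Finset.sum_congr rfl fun i _ => ?_
      rw [mul_pow, ← pow_mul]
      congr 2
      ring
    rw [h1]
    exact Ideal.mem_span_range_iff_exists_fun.mpr ⟨fun i => c i ^ p ^ e, rfl⟩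
  have hzero : ∀ e : ℕ, κ (p ^ e) (1 : R) = 0 := by
    intro e
    rw [← kappa_iter κ hκ2 (p ^ e) (k * p ^ e) (1 : R)]
    exact hκ1 _ _ (hfrob e) 1
  have hall : ∀ ξ : LocCoh.H (Ideal.span (Set.range a)) n R, ξ = 0 := by
    intro ξ
    obtain ⟨t, m, rfl⟩ := hκ3 ξ
    have hm : m = m • (1 : R) := by rw [smul_eq_mul, mul_one]
    rw [hm, map_smul]
    have ht : t ≤ p ^ t := (Nat.lt_pow_self (Fact.out : p.Prime).one_lt).le
    obtain ⟨s, hs⟩ := Nat.exists_eq_add_of_le ht
    have h1 : κ t (1 : R) = x ^ s • κ (p ^ t) (1 : R) := by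
      rw [← map_smul, hs, kappa_iter κ hκ2 t s (1 : R)]
    rw [h1, hzero, smul_zero, smul_zero]
  obtain ⟨u, v, huv⟩ := hNT
  exact huv (by rw [hall u, hall v])

end Groth.Agent.H58.NV
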