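import Groth.Agent.H58.NV.CM

/-!
# `H^n_m(M)` is not finitely generated for `n = dim M > 0`
-/
set_option autoImplicit false
set_option linter.unusedSectionVars false
set_option linter.style.haveILetI false
universe u
open CategoryTheory CategoryTheory.Limits Opposite Pointwise TensorProduct

namespace Groth.Agent.H58.NV

open Groth.Agent.H58.LC IsLocalRing

/-- module version of `smul_surjective_top` -/
theorem smul_surjective_top_module {R : Type u} [CommRing R] [IsNoetherianRing R] (I : Ideal R)
    (d : ℕ) (f : R) (M : Type u) [AddCommGroup M] [Module R M]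
    (h1 : Module.supportDim R M ≤ (d : WithBot ℕ∞))
    (h2 : Module.supportDim R (QuotSMulTop f M) < (d : WithBot ℕ∞)) :
    Function.Surjective (fun x : LocCoh.H I d M => f • x) := by
  let N : Submodule R M := LinearMap.range (LinearMap.lsmul R M f)
  let g : M →ₗ[R] N := (LinearMap.lsmul R M f).rangeRestrict
  have hS1 := shortExact_of (LinearMap.ker g).subtype g (Submodule.injective_subtype _)
    (LinearMap.surjective_rangeRestrict _) (LinearMap.exact_subtype_ker_map g)
  have hS2 := shortExact_of N.subtype N.mkQ (Submodule.injective_subtype _)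
    (Submodule.mkQ_surjective _) (LinearMap.exact_subtype_mkQ N)
  have hK : Subsingleton (LocCoh.H I (d + 1) (LinearMap.ker g)) := by
    apply gv I (d + 1)
    refine lt_of_le_of_lt ((Module.supportDim_le_of_injective (Submodule.subtype _)
      (Submodule.injective_subtype _)).trans h1) ?_
    exact_mod_cast Nat.lt_succ_self d
  have hQ : Subsingleton (LocCoh.H I d (M ⧸ N)) := by
    apply gv I d
    have : Module.supportDim R (M ⧸ N) = Module.supportDim R (QuotSMulTop f M) := by
      apply Module.supportDim_eq_of_equiv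
      refine Submodule.quotEquivOfEq _ _ ?_
      ext x
      simp only [N, LinearMap.mem_range, LinearMap.lsmul_apply]
      constructor
      · rintro ⟨y, rfl⟩
        exact Submodule.smul_mem_pointwise_smul y f ⊤ trivial
      · intro h
        obtain ⟨y, -, rfl⟩ := (Submodule.mem_smul_pointwise_iff_exists x f ⊤).1 h
        exact ⟨y, rfl⟩
    rw [this]
    exact h2
  intro x
  obtain ⟨y, hy⟩ := exact₂ I d hS2 x (Subsingleton.elim (h := hQ) _ _)
  obtain ⟨z, hz⟩ := exact₃ I d hS1 y (Subsingleton.elim (h := hK) _ _)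
  refine ⟨z, ?_⟩
  change f • z = x
  rw [← hy, ← hz]
  have hcomp : ModuleCat.ofHom g ≫ ModuleCat.ofHom N.subtype = f • 𝟙 (ModuleCat.of R M) := by
    apply ModuleCat.hom_ext
    apply LinearMap.ext
    intro m; rfl
  have h4 : ((localCohomology I d).map (ModuleCat.ofHom N.subtype)).hom
      (((localCohomology I d).map (ModuleCat.ofHom g)).hom z) =
      ((localCohomology I d).map (f • 𝟙 (ModuleCat.of R M))).hom z := by
    rw [← hcomp, (localCohomology I d).map_comp]; rfl
  rw [h4, map_smul', CategoryTheory.Functor.map_id]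
  rfl

variable (R : Type u) [CommRing R] [IsNoetherianRing R] [IsLocalRing R] (M : Type u)
  [AddCommGroup M] [Module R M] [Module.Finite R M]

/-- a parameter element: `x ∈ m` with `dim M/xM < dim M` when `dim M > 0` -/
theorem exists_mem_maximalIdeal_supportDim_lt (n : ℕ) (hn0 : 0 < n)
    (hn : Module.supportDim R M = n) :
    ∃ x ∈ maximalIdeal R, Module.supportDim R (QuotSMulTop x M) < (n : WithBot ℕ∞) := by
  classical
  set F : Set (Ideal R) := (Module.annihilator R M).minimalPrimes with hF
  have hFfin : F.Finite := Ideal.finite_minimalPrimes_of_isNoetherianRing R _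
  have hnot : ¬ ((maximalIdeal R : Set R) ⊆ ⋃ P ∈ F, (P : Set R)) := by
    intro hsub
    obtain ⟨P, hP, hmP⟩ := (Ideal.subset_union_prime_finite hFfin (f := id) ⊥ ⊥
      (fun P hP _ _ => hP.1.1)).1 hsub
    have hPprime : P.IsPrime := hP.1.1
    have hPm : P = maximalIdeal R := le_antisymm (le_maximalIdeal hPprime.ne_top) hmP
    -- then the support has dimension `0`
    have h1 : (1 : WithBot ℕ∞) ≤ Module.supportDim R M := by
      rw [hn]
      exact_mod_cast hn0
    obtain ⟨l, hl⟩ := Order.le_krullDim_iff.1 (show ((1 : ℕ) : WithBot ℕ∞) ≤ _ from h1)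
    have hab : l (Fin.castSucc ⟨0, by omega⟩) < l (Fin.succ ⟨0, by omega⟩) := l.step ⟨0, by omega⟩
    generalize l (Fin.castSucc ⟨0, by omega⟩) = a at hab
    generalize l (Fin.succ ⟨0, by omega⟩) = b at hab
    have hann : ∀ q : Module.support R M, Module.annihilator R M ≤ q.1.asIdeal := by
      intro q
      have : q.1 ∈ PrimeSpectrum.zeroLocus (Module.annihilator R M : Set R) := by
        rw [← Module.support_eq_zeroLocus]
        exact q.2
      exact this
    have h0 : maximalIdeal R ≤ a.1.asIdeal := by
      rw [← hPm]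
      exact hP.2 ⟨a.1.2, hann _⟩ (by rw [hPm]; exact le_maximalIdeal a.1.2.ne_top)
    have h1' : b.1.asIdeal ≤ maximalIdeal R := le_maximalIdeal b.1.2.ne_top
    have hba : b ≤ a := by
      show b.1.asIdeal ≤ a.1.asIdeal
      exact h1'.trans h0
    exact absurd (lt_of_lt_of_le hab hba) (lt_irrefl _)
  rw [Set.not_subset] at hnot
  obtain ⟨x, hxm, hxF⟩ := hnot
  simp only [Set.mem_iUnion, not_exists] at hxF
  refine ⟨x, hxm, ?_⟩
  have h2 := Module.supportDim_quotSMulTop_succ_le_of_notMem_minimalPrimes (R := R) (M := M)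
    (x := x) (fun p hp hxp => hxF p hp hxp)
  rw [hn] at h2
  exact lt_of_add_one_le_of_lt h2 (by exact_mod_cast Nat.lt_succ_self n)
  
theorem not_finite_top (n : ℕ) (hn0 : 0 < n) (hn : Module.supportDim R M = n) :
    ¬ Module.Finite R (LocCoh.H (maximalIdeal R) n M) := by
  intro hfin
  obtain ⟨x, hxm, hx⟩ := exists_mem_maximalIdeal_supportDim_lt R M n hn0 hn
  have hsurj := smul_surjective_top_module (maximalIdeal R) n x M hn.le hx
  have hNT := nonvanishing R M n hn
  have hle : (⊤ : Submodule R (LocCoh.H (maximalIdeal R) n M)) ≤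
      Ideal.span {x} • (⊤ : Submodule R (LocCoh.H (maximalIdeal R) n M)) := by
    intro y _
    obtain ⟨z, rfl⟩ := hsurj y
    exact Submodule.smul_mem_smul (Ideal.mem_span_singleton_self x) trivial
  have hjac : Ideal.span {x} ≤ (⊥ : Ideal R).jacobson := by
    rw [IsLocalRing.jacobson_eq_maximalIdeal ⊥ bot_ne_top]
    exact (Ideal.span_singleton_le_iff_mem _).2 hxm
  have := Submodule.eq_bot_of_le_smul_of_le_jacobson_bot _
    (⊤ : Submodule R (LocCoh.H (maximalIdeal R) n M)) Module.Finite.fg_top hle hjac
  exact top_ne_bot this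

end Groth.Agent.H58.NV
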