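import Groth.Agent.H58.NV.Dim
import Groth.Agent.H58.LCIndep2

/-!
# Grothendieck non-vanishing, step 3: reduction to local domains
-/
set_option autoImplicit false
set_option linter.unusedSectionVars false
universe u
open CategoryTheory CategoryTheory.Limits Opposite Pointwise

namespace Groth.Agent.H58.NV

open Groth.Agent.H58.LC IsLocalRing

/-- Non-vanishing of top local cohomology for local domains of dimension `d`. -/
def DomainNV (d : ℕ) : Prop :=
  ∀ (D : Type u) [CommRing D] [IsDomain D] [IsNoetherianRing D] [IsLocalRing D],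
    ringKrullDim D = d → Nontrivial (LocCoh.H (maximalIdeal D) d D)

/-- in a domain of dimension `d`, multiplication by a nonzero element is surjective on `H^d` -/
theorem smul_surjective_top_domain {A : Type u} [CommRing A] [IsDomain A] [IsNoetherianRing A]
    (I : Ideal A) (d : ℕ) (hd : ringKrullDim A = d) (x : A) (hx : x ≠ 0) :
    Function.Surjective (fun ξ : LocCoh.H I d A => x • ξ) := by
  apply smul_surjective_top I d hd x _ A
  intro p hp _ hxp
  have : p = ⊥ := le_bot_iff.mp (hp.2 ⟨Ideal.isPrime_bot, le_rfl⟩ bot_le)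
  rw [this] at hxp
  exact hx hxp

/-- key transfer lemma: a finite module over a domain with a non-torsion element has
non-vanishing top local cohomology as soon as the ring has -/
theorem nontrivial_of_nonTorsion {A : Type u} [CommRing A] [IsDomain A] [IsNoetherianRing A]
    (I : Ideal A) (d : ℕ) (hd : ringKrullDim A = d) (hA : Nontrivial (LocCoh.H I d A))
    (N : Type u) [AddCommGroup N] [Module A N] [Module.Finite A N] (n₀ : N)
    (hn₀ : ∀ a : A, a • n₀ = 0 → a = 0) : Nontrivial (LocCoh.H I d N) := by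
  obtain ⟨f, hf⟩ := exists_functional N n₀ hn₀
  exact nontrivial_of_functional I d N f n₀ (smul_surjective_top_domain I d hd _ hf) hA

theorem nontrivial_of_domainNV (d : ℕ) (hD : DomainNV.{u} d) (R : Type u) [CommRing R]
    [IsNoetherianRing R] [IsLocalRing R] (M : Type u) [AddCommGroup M] [Module R M]
    [Module.Finite R M] (hd : Module.supportDim R M = d) :
    Nontrivial (LocCoh.H (maximalIdeal R) d M) := by
  obtain ⟨p, hpM, hpd⟩ := exists_prime_dim_eq M d hd
  haveI := p.2
  haveI : Nontrivial (R ⧸ p.asIdeal) := Ideal.Quotient.nontrivial_iff.2 p.2.ne_top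
  haveI : IsLocalRing (R ⧸ p.asIdeal) :=
    IsLocalRing.of_surjective' (Ideal.Quotient.mk p.asIdeal) Ideal.Quotient.mk_surjective
  -- step 1: pass to `N = M / pM`
  have hT : Module.supportDim R (p.asIdeal • ⊤ : Submodule R M) < ((d + 1 : ℕ) : WithBot ℕ∞) := by
    refine lt_of_le_of_lt (Module.supportDim_le_of_injective (Submodule.subtype _)
      (Submodule.injective_subtype _)) ?_
    rw [hd]
    exact_mod_cast Nat.lt_succ_self d
  have hsurj := surjective_map_mkQ_top (maximalIdeal R) d M (p.asIdeal • ⊤ : Submodule R M) hT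
  suffices h : Nontrivial (LocCoh.H (maximalIdeal R) d (M ⧸ (p.asIdeal • ⊤ : Submodule R M))) by
    obtain ⟨a, b, hab⟩ := h
    obtain ⟨a', rfl⟩ := hsurj a
    obtain ⟨b', rfl⟩ := hsurj b
    exact ⟨a', b', fun h' => hab (by rw [h'])⟩
  -- step 2: independence of base
  obtain ⟨φ, -⟩ := indepProp (R' := R ⧸ p.asIdeal) (maximalIdeal R) d
    (M ⧸ (p.asIdeal • ⊤ : Submodule R M))
  have hmap : (maximalIdeal R).map (algebraMap R (R ⧸ p.asIdeal)) = maximalIdeal (R ⧸ p.asIdeal) :=
    map_maximalIdeal_of_surjective (Ideal.Quotient.mk p.asIdeal) Ideal.Quotient.mk_surjective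
  rw [hmap] at φ
  suffices h : Nontrivial (LocCoh.H (maximalIdeal (R ⧸ p.asIdeal)) d
      (M ⧸ (p.asIdeal • ⊤ : Submodule R M))) from φ.symm.toEquiv.nontrivial
  -- step 3: a non-torsion element
  have hpN : p ∈ Module.support R (M ⧸ (p.asIdeal • ⊤ : Submodule R M)) := by
    rw [Module.support_quotient]
    exact ⟨hpM, fun x hx => hx⟩
  obtain ⟨n₀, hn₀⟩ := Module.mem_support_iff'.mp hpN
  haveI : Module.Finite (R ⧸ p.asIdeal) (M ⧸ (p.asIdeal • ⊤ : Submodule R M)) :=
    Module.Finite.of_restrictScalars_finite R _ _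
  refine nontrivial_of_nonTorsion (maximalIdeal (R ⧸ p.asIdeal)) d hpd
    (hD (R ⧸ p.asIdeal) hpd) _ n₀ ?_
  intro a ha
  obtain ⟨a, rfl⟩ := Ideal.Quotient.mk_surjective a
  by_contra hne
  have hap : a ∉ p.asIdeal := fun h => hne (Ideal.Quotient.eq_zero_iff_mem.2 h)
  exact hn₀ a hap ha

end Groth.Agent.H58.NV
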